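import Groth.Agent.Lib.GeomFF26.Basic
import Mathlib.FieldTheory.IntermediateField.Adjoin.Algebra
import Mathlib.RingTheory.KrullDimension.Polynomial
import Mathlib.RingTheory.KrullDimension.Field
import Mathlib.RingTheory.Jacobson.Ring
import Mathlib.FieldTheory.PrimitiveElement
import Mathlib.RingTheory.AlgebraicIndependent.TranscendenceBasis
import Mathlib.RingTheory.UniqueFactorizationDomain.Ideal
import Mathlib.RingTheory.Polynomial.UniqueFactorization
import Mathlib.RingTheory.TensorProduct.Finite

/-! # Geometric function fields of one variable and absolutely irreducible plane models -/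

set_option autoImplicit false
set_option linter.style.haveILetI false

namespace Groth.Agent.PlaneModel28

open FunFld MvPolynomial IntermediateField.algebraAdjoinAdjoin
open scoped TensorProduct IntermediateField

universe u v

variable {k : Type u} {K : Type v} [Field k] [Field K] [Algebra k K]

theorem trdeg_le_one (h : FunField.FF k K) : Algebra.trdeg k K ≤ 1 := by
  obtain ⟨x, hx, hfin⟩ := h
  have halg : Algebra.IsAlgebraic (Algebra.adjoin k ({x} : Set K)) K := by
    haveI : Algebra.IsAlgebraic k⟮x⟯ K := Algebra.IsAlgebraic.of_finite _ _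
    exact (IsFractionRing.comap_isAlgebraic_iff (A := Algebra.adjoin k ({x} : Set K))
      (K := k⟮x⟯) (C := K)).2 this
  haveI := halg
  simpa using Algebra.IsAlgebraic.trdeg_le_cardinalMk (R := k) (A := K) (s := ({x} : Set K))

theorem eq_range_algebraMap (hg : IsGeometric k K) {z : K} (hz : IsAlgebraic k z) :
    z ∈ Set.range (algebraMap k K) := by
  have hint := hz.isIntegral
  set p := minpoly k z
  haveI : Fact (Irreducible p) := ⟨minpoly.irreducible hint⟩
  haveI : FiniteDimensional k (AdjoinRoot p) := (AdjoinRoot.powerBasis (minpoly.ne_zero hint)).finite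
  let ρ : AdjoinRoot p →ₐ[k] K := AdjoinRoot.liftAlgHom p (Algebra.ofId k K) z (minpoly.aeval k z)
  let Ψ : AdjoinRoot p ⊗[k] K →ₐ[k] K := Algebra.TensorProduct.lift ρ (AlgHom.id k K) fun _ _ => Commute.all _ _
  letI := (hg (AdjoinRoot p) inferInstance).toField
  have h1 : Function.Injective Ψ := Ψ.toRingHom.injective
  have h2 : (1 : AdjoinRoot p) ⊗ₜ[k] z = AdjoinRoot.root p ⊗ₜ[k] (1 : K) := h1 (by
    rw [Algebra.TensorProduct.lift_tmul, Algebra.TensorProduct.lift_tmul, map_one, one_mul, map_one, mul_one,
      AlgHom.id_apply]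
    simp [ρ])
  by_contra hne
  let pb : PowerBasis k (AdjoinRoot p) := AdjoinRoot.powerBasis (minpoly.ne_zero hint)
  have hdim : 1 < pb.dim := by
    rw [AdjoinRoot.powerBasis_dim]
    exact (minpoly.two_le_natDegree_iff hint).2 hne
  have e0 : pb.basis ⟨0, by omega⟩ = 1 := by simp [PowerBasis.basis_eq_pow]
  have e1 : pb.basis ⟨1, hdim⟩ = AdjoinRoot.root p := by
    rw [PowerBasis.basis_eq_pow]; simp [pb]
  rw [← e0, ← e1] at h2
  have h3 := congrArg (fun w => TensorProduct.equivFinsuppOfBasisLeft pb.basis w ⟨1, hdim⟩) h2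
  simp only [TensorProduct.equivFinsuppOfBasisLeft_apply_tmul_apply, Module.Basis.repr_self] at h3
  simp [Finsupp.single_apply] at h3

variable {k' : Type u} [Field k'] [Algebra k k']

/-- Evaluation at a pair, after extending the constants. -/
noncomputable def psi (x y : K) : MvPolynomial (Fin 2) k' →ₐ[k] k' ⊗[k] K :=
  { MvPolynomial.eval₂Hom (Algebra.TensorProduct.includeLeftRingHom : k' →+* k' ⊗[k] K)
      (fun i => (1 : k') ⊗ₜ[k] (![x, y] i)) with
    commutes' := fun c => by
      show MvPolynomial.eval₂Hom _ _ (MvPolynomial.C (algebraMap k k' c)) = _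
      rw [eval₂Hom_C]
      rfl }

theorem psi_C_mul_map (x y : K) (a : k') (g : MvPolynomial (Fin 2) k) :
    psi (k := k) (k' := k') x y (C a * map (algebraMap k k') g) = a ⊗ₜ[k] (aeval ![x, y] g) := by
  have h1 : ∀ g : MvPolynomial (Fin 2) k, psi (k := k) (k' := k') x y (map (algebraMap k k') g) = (1 : k') ⊗ₜ[k] aeval ![x, y] g := by
    intro g
    induction g using MvPolynomial.induction_on with
    | C c =>
      show MvPolynomial.eval₂Hom _ _ (map _ (C c)) = _
      rw [map_C, eval₂Hom_C, aeval_C, Algebra.TensorProduct.includeLeftRingHom_apply,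
        Algebra.algebraMap_eq_smul_one, Algebra.algebraMap_eq_smul_one, TensorProduct.smul_tmul]
    | add p q hp hq => rw [map_add, map_add, map_add, TensorProduct.tmul_add, hp, hq]
    | mul_X p i hp =>
      rw [map_mul, map_mul, map_mul, hp, map_X, aeval_X]
      show _ * MvPolynomial.eval₂Hom _ _ (X i) = _
      rw [eval₂Hom_X', Algebra.TensorProduct.tmul_mul_tmul, one_mul]
  rw [map_mul, h1]
  show MvPolynomial.eval₂Hom _ _ (C a) * _ = _
  rw [eval₂Hom_C, Algebra.TensorProduct.includeLeftRingHom_apply, Algebra.TensorProduct.tmul_mul_tmul, mul_one,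
    one_mul]

theorem psi_map (x y : K) (g : MvPolynomial (Fin 2) k) :
    psi (k := k) (k' := k') x y (map (algebraMap k k') g) = (1 : k') ⊗ₜ[k] (aeval ![x, y] g) := by
  rw [← psi_C_mul_map x y 1 g, map_one, one_mul]

theorem dvd_of_psi_eq_zero [FiniteDimensional k k'] {x y : K} {f : MvPolynomial (Fin 2) k}
    (hker : RingHom.ker (aeval ![x, y] : MvPolynomial (Fin 2) k →ₐ[k] K) = Ideal.span {f})
    {g : MvPolynomial (Fin 2) k'} (hg : psi (k := k) (k' := k') x y g = 0) : map (algebraMap k k') f ∣ g := by
  classical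
  let w := Module.finBasis k k'
  let gj : Fin (Module.finrank k k') → MvPolynomial (Fin 2) k := fun j =>
    ∑ d ∈ g.support, monomial d (w.repr (g.coeff d) j)
  have he : g = ∑ j, C (w j) * map (algebraMap k k') (gj j) := by
    simp only [gj, map_sum, Finset.mul_sum, map_monomial, C_mul_monomial]
    rw [Finset.sum_comm]
    conv_lhs => rw [as_sum g]
    refine Finset.sum_congr rfl fun d _ => ?_
    rw [← map_sum]
    congr 1
    conv_lhs => rw [← w.sum_repr (g.coeff d)]
    exact Finset.sum_congr rfl fun j _ => by rw [Algebra.smul_def, mul_comm]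
  have h0 : ∀ j, aeval ![x, y] (gj j) = 0 := by
    intro j
    rw [he, map_sum] at hg
    simp only [psi_C_mul_map] at hg
    have := congrArg (fun u => TensorProduct.equivFinsuppOfBasisLeft w u j) hg
    simpa [Finsupp.single_apply] using this
  rw [he]
  refine Finset.dvd_sum fun j _ => Dvd.dvd.mul_left (_root_.map_dvd _ ?_) _
  rw [← Ideal.mem_span_singleton, ← hker]
  exact h0 j

theorem ker_principal (h : FunField.FF k K) {x y : K} (hx : Transcendental k x) :
    ∃ f : MvPolynomial (Fin 2) k, Prime f ∧
      RingHom.ker (aeval ![x, y] : MvPolynomial (Fin 2) k →ₐ[k] K) = Ideal.span {f} := by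
  set φ : MvPolynomial (Fin 2) k →ₐ[k] K := aeval ![x, y]
  set P := RingHom.ker φ
  haveI hP : P.IsPrime := RingHom.ker_isPrime φ
  have hne : P ≠ ⊥ := by
    intro hb
    have hind : AlgebraicIndependent k ![x, y] :=
      algebraicIndependent_iff_injective_aeval.2 ((RingHom.injective_iff_ker_eq_bot _).2 hb)
    have h1 := hind.lift_cardinalMk_le_trdeg.trans (Cardinal.lift_le.2 (trdeg_le_one h))
    rw [Cardinal.mk_fin, Cardinal.lift_natCast, Cardinal.lift_one] at h1
    norm_num at h1
  obtain ⟨f, hfP, hf⟩ := hP.exists_mem_prime_of_ne_bot hne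
  refine ⟨f, hf, ?_⟩
  have hle : Ideal.span {f} ≤ P := (Ideal.span_singleton_le_iff_mem _).2 hfP
  refine (hle.eq_or_lt.resolve_right fun hlt => ?_).symm
  have hnm : ¬ P.IsMaximal := by
    intro hm
    letI := Ideal.Quotient.field P
    haveI : Algebra.FiniteType k (MvPolynomial (Fin 2) k ⧸ P) :=
      Algebra.FiniteType.of_surjective (Ideal.Quotient.mkₐ k P) (Ideal.Quotient.mkₐ_surjective k P)
    haveI := finite_of_finite_type_of_isJacobsonRing k (MvPolynomial (Fin 2) k ⧸ P)
    have h1 : IsAlgebraic k (Ideal.Quotient.mkₐ k P (X 0)) := (IsIntegral.of_finite k _).isAlgebraic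
    have h2 := h1.algHom (Ideal.Quotient.liftₐ P φ fun a ha => ha)
    rw [show Ideal.Quotient.liftₐ P φ (fun a ha => ha) (Ideal.Quotient.mkₐ k P (X 0)) = x from
      (aeval_X ![x, y] 0)] at h2
    exact hx h2
  obtain ⟨m, hm, hPm⟩ := Ideal.exists_le_maximal P hP.ne_top
  haveI : (Ideal.span {f}).IsPrime := (Ideal.span_singleton_prime hf.ne_zero).2 hf
  let p0 : PrimeSpectrum (MvPolynomial (Fin 2) k) := ⟨⊥, Ideal.isPrime_bot⟩
  let p1 : PrimeSpectrum (MvPolynomial (Fin 2) k) := ⟨Ideal.span {f}, inferInstance⟩
  let p2 : PrimeSpectrum (MvPolynomial (Fin 2) k) := ⟨P, hP⟩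
  let p3 : PrimeSpectrum (MvPolynomial (Fin 2) k) := ⟨m, hm.isPrime⟩
  have h01 : p0 < p1 := lt_of_le_of_ne bot_le fun e => hf.ne_zero
    (Ideal.span_singleton_eq_bot.1 (congrArg PrimeSpectrum.asIdeal e).symm)
  have h12 : p1 < p2 := hlt
  have h23 : p2 < p3 := lt_of_le_of_ne hPm fun e => hnm (by
    have : P = m := congrArg PrimeSpectrum.asIdeal e
    exact this ▸ hm)
  let s : LTSeries (PrimeSpectrum (MvPolynomial (Fin 2) k)) :=
    (((RelSeries.singleton _ p0).snoc p1 h01).snoc p2 (by rw [RelSeries.last_snoc]; exact h12)).snoc p3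
      (by rw [RelSeries.last_snoc]; exact h23)
  have h3 := Order.LTSeries.length_le_krullDim s
  rw [show Order.krullDim (PrimeSpectrum (MvPolynomial (Fin 2) k)) = 2 from by
    show ringKrullDim _ = _
    rw [MvPolynomial.ringKrullDim_of_isNoetherianRing, ringKrullDim_eq_zero_of_field]
    simp] at h3
  exact absurd h3 (by simp [s]; exact_mod_cast (by norm_num : (2 : ℕ) < 3))

theorem forward (hK : IsFunctionField k K) (hg : IsGeometric k K) :
    ∃ (x y : K) (f : MvPolynomial (Fin 2) k),
      IntermediateField.adjoin k ({x, y} : Set K) = ⊤ ∧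
      (∀ (k' : Type u) [Field k'] [Algebra k k'], FiniteDimensional k k' →
        Irreducible (map (algebraMap k k') f)) ∧
      RingHom.ker (aeval ![x, y] : MvPolynomial (Fin 2) k →ₐ[k] K) = Ideal.span {f} := by
  have h : FunField.FF k K := hK.1
  obtain ⟨x, hsep⟩ := GeomFF26.exists_sep h hg
  have hx : Transcendental k x := by
    intro ha
    obtain ⟨c, rfl⟩ := hK.2 x ha
    exact GeomFF26.D_ne_zero_of_sep h hsep (Derivation.map_algebraMap _ c)
  haveI := GeomFF26.isSeparable_of_sep h hsep
  haveI := h.finiteDimensional hx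
  obtain ⟨y, hy⟩ := Field.exists_primitive_element k⟮x⟯ K
  obtain ⟨f, hf, hker⟩ := ker_principal h (y := y) hx
  refine ⟨x, y, f, ?_, fun k' _ _ hfin => ?_, hker⟩
  · rw [← IntermediateField.adjoin_simple_adjoin_simple, hy, IntermediateField.restrictScalars_top]
  · letI := (hg k' hfin).toField
    have hspan : Ideal.span {map (algebraMap k k') f} = RingHom.ker (psi (k := k) (k' := k') x y) := by
      refine le_antisymm ((Ideal.span_singleton_le_iff_mem _).2 ?_) fun g hg' =>
        Ideal.mem_span_singleton.2 (dvd_of_psi_eq_zero hker hg')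
      show psi (k := k) (k' := k') x y (map (algebraMap k k') f) = 0
      rw [psi_map, show aeval ![x, y] f = 0 from show f ∈ RingHom.ker (aeval ![x, y] : _ →ₐ[k] K) by
        rw [hker]; exact Ideal.mem_span_singleton_self f, TensorProduct.tmul_zero]
    have hne : map (algebraMap k k') f ≠ 0 :=
      (map_ne_zero_iff _ (map_injective _ (algebraMap k k').injective)).2 hf.ne_zero
    exact ((Ideal.span_singleton_prime hne).1 (hspan ▸ RingHom.ker_isPrime (psi (k := k) (k' := k') x y))).irreducible

theorem backward {x y : K} {f : MvPolynomial (Fin 2) k}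
    (htop : IntermediateField.adjoin k ({x, y} : Set K) = ⊤)
    (hirr : ∀ (k' : Type u) [Field k'] [Algebra k k'], FiniteDimensional k k' →
      Irreducible (map (algebraMap k k') f))
    (hker : RingHom.ker (aeval ![x, y] : MvPolynomial (Fin 2) k →ₐ[k] K) = Ideal.span {f}) :
    IsFunctionField k K ∧ IsGeometric k K := by
  classical
  have hfrac : ∀ z : K, ∃ r s : MvPolynomial (Fin 2) k, z = aeval ![x, y] r / aeval ![x, y] s := fun z => by
    refine (IntermediateField.mem_adjoin_range_iff k ![x, y] z).1 ?_
    rw [show Set.range ![x, y] = {x, y} by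
      rw [Matrix.range_cons_cons_empty], htop]
    trivial
  have hirr0 : Irreducible f := by
    have h1 := hirr k inferInstance
    rwa [Algebra.algebraMap_self, map_id] at h1
  have hfz : aeval ![x, y] f = 0 := show f ∈ RingHom.ker (aeval ![x, y] : _ →ₐ[k] K) by
    rw [hker]; exact Ideal.mem_span_singleton_self f
  have hgeo : IsGeometric k K := by
    intro k' _ _ hfin
    have hprime : Prime (map (algebraMap k k') f) := (hirr k' hfin).prime
    have hden : ∀ u : k' ⊗[k] K, ∃ (s : MvPolynomial (Fin 2) k) (g : MvPolynomial (Fin 2) k'),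
        aeval ![x, y] s ≠ 0 ∧ ((1 : k') ⊗ₜ[k] aeval ![x, y] s) * u = psi (k := k) (k' := k') x y g := by
      intro u
      induction u using TensorProduct.induction_on with
      | zero => exact ⟨1, 0, by simp, by simp⟩
      | tmul a z =>
        obtain ⟨r, s, rfl⟩ := hfrac z
        by_cases hs : aeval ![x, y] s = 0
        · exact ⟨1, 0, by simp, by simp [hs]⟩
        · exact ⟨s, C a * map (algebraMap k k') r, hs, by
            rw [psi_C_mul_map, Algebra.TensorProduct.tmul_mul_tmul, one_mul, mul_div_cancel₀ _ hs]⟩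
      | add a b ha hb =>
        obtain ⟨s, g, hs, hg⟩ := ha
        obtain ⟨s', g', hs', hg'⟩ := hb
        refine ⟨s * s', map (algebraMap k k') s' * g + map (algebraMap k k') s * g', by
          rw [map_mul]; exact mul_ne_zero hs hs', ?_⟩
        rw [map_add, map_mul (psi (k := k) (k' := k') x y), map_mul (psi (k := k) (k' := k') x y), ← hg, ← hg', psi_map, psi_map, map_mul,
          show ((1 : k') ⊗ₜ[k] (aeval ![x, y] s * aeval ![x, y] s')) =
            ((1 : k') ⊗ₜ[k] aeval ![x, y] s) * ((1 : k') ⊗ₜ[k] aeval ![x, y] s') by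
              rw [Algebra.TensorProduct.tmul_mul_tmul, one_mul]]
        ring
    have hcancel : ∀ {s : MvPolynomial (Fin 2) k} {u : k' ⊗[k] K}, aeval ![x, y] s ≠ 0 →
        ((1 : k') ⊗ₜ[k] aeval ![x, y] s) * u = 0 → u = 0 := fun {s u} hs he => by
      have h1 : ((1 : k') ⊗ₜ[k] (aeval ![x, y] s)⁻¹) * ((1 : k') ⊗ₜ[k] aeval ![x, y] s) = 1 := by
        rw [Algebra.TensorProduct.tmul_mul_tmul, one_mul, inv_mul_cancel₀ hs]; rfl
      rw [← one_mul u, ← h1, mul_assoc, he, mul_zero]
    have hzero : ∀ g : MvPolynomial (Fin 2) k', map (algebraMap k k') f ∣ g → psi (k := k) (k' := k') x y g = 0 := by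
      rintro g ⟨c, rfl⟩
      rw [map_mul, psi_map, hfz, TensorProduct.tmul_zero, zero_mul]
    haveI : Nontrivial (k' ⊗[k] K) :=
      (Algebra.TensorProduct.includeRight_injective (R := k) (A := k') (B := K) (algebraMap k k').injective).nontrivial
    haveI : NoZeroDivisors (k' ⊗[k] K) := ⟨fun {u v} huv => by
      obtain ⟨s, g, hs, hg⟩ := hden u
      obtain ⟨s', g', hs', hg'⟩ := hden v
      have h0 : psi (k := k) (k' := k') x y (g * g') = 0 := by rw [map_mul, ← hg, ← hg', mul_mul_mul_comm, huv, mul_zero]
      rcases hprime.dvd_or_dvd (dvd_of_psi_eq_zero hker h0) with h1 | h1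
      · exact Or.inl (hcancel hs (by rw [hg]; exact hzero g h1))
      · exact Or.inr (hcancel hs' (by rw [hg']; exact hzero g' h1))⟩
    haveI : IsDomain (k' ⊗[k] K) := NoZeroDivisors.to_isDomain _
    letI : Algebra K (k' ⊗[k] K) := Algebra.TensorProduct.rightAlgebra
    haveI : Module.Finite K (k' ⊗[k] K) := Module.Finite.of_basis
      ((Algebra.TensorProduct.basis K (Module.finBasis k k')).map
        { Algebra.TensorProduct.comm k K k' with
          map_smul' := fun c u => by
            show Algebra.TensorProduct.comm k K k' (c • u) = _ * Algebra.TensorProduct.comm k K k' u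
            rw [Algebra.smul_def, map_mul]
            rfl })
    haveI : Algebra.IsIntegral K (k' ⊗[k] K) := Algebra.IsIntegral.of_finite _ _
    exact isField_of_isIntegral_of_isField' (Field.toIsField K)
  refine ⟨⟨?_, fun z hz => eq_range_algebraMap hgeo hz⟩, hgeo⟩
  have hnu : ¬ IsUnit f := hirr0.not_isUnit
  by_cases hy : Transcendental k y
  · -- `x` is algebraic over `k(y)`
    refine ⟨y, hy, ?_⟩
    have hx : IsAlgebraic k⟮y⟯ x := by
      let g0 : MvPolynomial (Fin 1) k →ₐ[k] k⟮y⟯ := aeval fun _ => IntermediateField.AdjoinSimple.gen k y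
      have hg0 : Function.Injective g0 := by
        have hind : AlgebraicIndependent k fun _ : Fin 1 => IntermediateField.AdjoinSimple.gen k y :=
          algebraicIndependent_unique_type_iff.2 fun ha => hy (by simpa using ha.algHom k⟮y⟯.val)
        exact algebraicIndependent_iff_injective_aeval.1 hind
      refine ⟨(MvPolynomial.finSuccEquiv k 1 f).map (g0 : MvPolynomial (Fin 1) k →+* k⟮y⟯), ?_, ?_⟩
      · rw [Ne, Polynomial.map_eq_zero_iff (f := (g0 : MvPolynomial (Fin 1) k →+* k⟮y⟯)) hg0, map_eq_zero_iff _ (MvPolynomial.finSuccEquiv k 1).injective]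
        exact hirr0.ne_zero
      · have key : ∀ q : MvPolynomial (Fin 2) k,
            Polynomial.aeval x ((MvPolynomial.finSuccEquiv k 1 q).map (g0 : MvPolynomial (Fin 1) k →+* k⟮y⟯)) =
              aeval ![x, y] q := by
          intro q
          induction q using MvPolynomial.induction_on with
          | C c =>
            rw [finSuccEquiv_apply, eval₂Hom_C, RingHom.comp_apply, Polynomial.map_C, Polynomial.aeval_C, aeval_C,
              RingHom.coe_coe, show g0 (C c) = algebraMap k k⟮y⟯ c from aeval_C _ c,
              ← IsScalarTower.algebraMap_apply]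
          | add p q hp hq => rw [map_add, Polynomial.map_add, map_add, hp, hq, map_add]
          | mul_X p i hp =>
            rw [map_mul, Polynomial.map_mul, map_mul, hp, map_mul, aeval_X]
            congr 1
            fin_cases i
            · rw [show ((⟨0, by omega⟩ : Fin 2)) = 0 from rfl, finSuccEquiv_X_zero, Polynomial.map_X, Polynomial.aeval_X]
              rfl
            · rw [show ((⟨1, by omega⟩ : Fin 2)) = Fin.succ 0 from rfl, finSuccEquiv_X_succ, Polynomial.map_C,
                Polynomial.aeval_C, RingHom.coe_coe, show g0 (X 0) = IntermediateField.AdjoinSimple.gen k y from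
                  aeval_X _ 0]
              rfl
        rw [key]
        exact hfz
    haveI := IntermediateField.adjoin.finiteDimensional hx.isIntegral
    have e : (k⟮y⟯⟮x⟯ : IntermediateField k⟮y⟯ K) = ⊤ := by
      apply IntermediateField.restrictScalars_injective k
      rw [IntermediateField.adjoin_simple_adjoin_simple, Set.pair_comm, htop, IntermediateField.restrictScalars_top]
    exact Module.Finite.equiv ((IntermediateField.equivOfEq e).trans IntermediateField.topEquiv).toLinearEquiv
  · rw [Transcendental, not_not] at hy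
    have hx : Transcendental k x := by
      intro hx
      -- then `f` divides polynomials in `x` alone and in `y` alone
      obtain ⟨p, hp0, hp⟩ := hx
      obtain ⟨q, hq0, hq⟩ := hy
      have hp' : Polynomial.aeval (X 0 : MvPolynomial (Fin 2) k) p ∈ RingHom.ker (aeval ![x, y] : _ →ₐ[k] K) := by
        show aeval ![x, y] _ = 0
        rw [← Polynomial.aeval_algHom_apply, aeval_X]; exact hp
      have hq' : Polynomial.aeval (X 1 : MvPolynomial (Fin 2) k) q ∈ RingHom.ker (aeval ![x, y] : _ →ₐ[k] K) := by
        show aeval ![x, y] _ = 0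
        rw [← Polynomial.aeval_algHom_apply, aeval_X]; exact hq
      rw [hker, Ideal.mem_span_singleton] at hp' hq'
      have hdeg : ∀ (i j : Fin 2) (r : Polynomial k), r ≠ 0 → f ∣ Polynomial.aeval (X i : MvPolynomial (Fin 2) k) r →
          j ≠ i → f.degreeOf j = 0 := by
        intro i j r hr hd hji
        obtain ⟨c, hc⟩ := hd
        have hsum : (Polynomial.aeval (X i : MvPolynomial (Fin 2) k) r).degreeOf j = 0 := by
          rw [← Nat.le_zero, Polynomial.aeval_eq_sum_range]
          refine (degreeOf_sum_le _ _ _).trans (Finset.sup_le fun m _ => ?_)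
          rw [smul_eq_C_mul]
          refine (degreeOf_C_mul_le _ _ _).trans ((degreeOf_pow_le _ _ _).trans ?_)
          simp [degreeOf_X, hji]
        have hne : Polynomial.aeval (X i : MvPolynomial (Fin 2) k) r ≠ 0 := by
          have := (MvPolynomial.transcendental_X (R := k) i)
          exact fun e => this ⟨r, hr, e⟩
        rw [hc] at hsum hne
        rw [degreeOf_mul_eq (left_ne_zero_of_mul hne) (right_ne_zero_of_mul hne)] at hsum
        omega
      have h0 := hdeg 0 1 p hp0 hp' (by decide)
      have h1 := hdeg 1 0 q hq0 hq' (by decide)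
      refine hnu ?_
      rw [show f = C (f.coeff 0) from ?_]
      · refine (isUnit_iff_ne_zero.2 fun e => hirr0.ne_zero ?_).map C
        rw [show f = C (f.coeff 0) from ?_, e, map_zero]
        exact (totalDegree_eq_zero_iff_eq_C).1 (by
          rw [totalDegree_eq_zero_iff]
          intro d hd i
          fin_cases i
          · exact Nat.le_zero.1 ((monomial_le_degreeOf 0 hd).trans h1.le)
          · exact Nat.le_zero.1 ((monomial_le_degreeOf 1 hd).trans h0.le))
      · exact (totalDegree_eq_zero_iff_eq_C).1 (by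
          rw [totalDegree_eq_zero_iff]
          intro d hd i
          fin_cases i
          · exact Nat.le_zero.1 ((monomial_le_degreeOf 0 hd).trans h1.le)
          · exact Nat.le_zero.1 ((monomial_le_degreeOf 1 hd).trans h0.le))
    refine ⟨x, hx, ?_⟩
    haveI := IntermediateField.adjoin.finiteDimensional ((hy.tower_top k⟮x⟯).isIntegral)
    have e : (k⟮x⟯⟮y⟯ : IntermediateField k⟮x⟯ K) = ⊤ := by
      apply IntermediateField.restrictScalars_injective k
      rw [IntermediateField.adjoin_simple_adjoin_simple, htop, IntermediateField.restrictScalars_top]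
    exact Module.Finite.equiv ((IntermediateField.equivOfEq e).trans IntermediateField.topEquiv).toLinearEquiv

end Groth.Agent.PlaneModel28
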